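import Groth.Agent.AmpleThLib.Pow
import Groth.Agent.CurvLib.Euler
import Groth.Prelude.Def_KLin
import Mathlib.FieldTheory.Perfect
import Mathlib.Algebra.CharP.Lemmas

/-!
# Cohomology of line bundles on a Frobenius split scheme
-/

set_option autoImplicit false
set_option linter.style.haveILetI false
set_option linter.unusedSectionVars false
set_option backward.isDefEq.respectTransparency false
set_option backward.isDefEq.respectTransparency.types false
set_option maxHeartbeats 800000
universe u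

open CategoryTheory CategoryTheory.Limits AlgebraicGeometry TopologicalSpace Opposite
open AmpleLib (res res_res res_smul GenOn)
open AmpleThLib (pS pS_res pS_smul pS_genOn)

noncomputable section

namespace FrobSplitCohLib

/-- A semilinear injection over a perfect field does not decrease dimensions. -/
theorem finrank_le_of_semilinear {k V W : Type*} [Field k] [AddCommGroup V] [Module k V] [AddCommGroup W]
    [Module k W] [Module.Finite k W] (p : ℕ) [Fact p.Prime] [CharP k p] [PerfectRing k p] (f : V →+ W)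
    (hinj : Function.Injective f) (hf : ∀ (c : k) (v : V), f (c • v) = c ^ p • f v) :
    Module.finrank k V ≤ Module.finrank k W := by
  classical
  obtain ⟨s, hs⟩ := Module.Free.exists_basis (R := k) (M := V)
  have key : ∀ (n : ℕ) (v : Fin n → V), LinearIndependent k v → LinearIndependent k (f ∘ v) := fun n v hv => by
    rw [Fintype.linearIndependent_iff] at hv ⊢
    intro g hg
    obtain ⟨r, hr⟩ : ∃ r : Fin n → k, ∀ i, r i ^ p = g i :=
      ⟨fun i => (frobeniusEquiv k p).symm (g i), fun i => frobeniusEquiv_symm_pow_p k p (g i)⟩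
    have h0 : f (∑ i, r i • v i) = 0 := by
      rw [map_sum, ← hg]
      exact Finset.sum_congr rfl fun i _ => by rw [hf, hr]; rfl
    intro i
    rw [← hr i, hv r (hinj (h0.trans (map_zero f).symm)) i, zero_pow (Fact.out : p.Prime).ne_zero]
  rcases Nat.eq_zero_or_pos (Module.finrank k V) with h | h
  · rw [h]; exact Nat.zero_le _
  · haveI : Module.Finite k V := Module.finite_of_finrank_pos h
    simpa using (key _ _ (Module.finBasis k V).linearIndependent).fintype_card_le_finrank

variable {X : Scheme.{u}} {p : ℕ}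

/-- The `p`-th power of a section of a line bundle is additive. -/
theorem pS_add [hp : Fact p.Prime] (hp0 : ∀ U : X.Opens, (p : Γ(X, U)) = 0) {L : X.Modules}
    (hL : PicF.IsInvertible L) {U : X.Opens} (a b : Γ(L, U)) : pS (a + b) p = pS a p + pS b p := by
  choose W e hW he using fun y : U => TwistLib.exists_genOn hL y.1
  let S : TopCat.Sheaf AddCommGrpCat.{u} X.toTopCat := (QCohLib.toAbF X).obj (CohB1.tensorPow L p)
  refine TopCat.Sheaf.eq_of_locally_eq' S (fun y : U => W y ⊓ U) U (fun y => homOfLE inf_le_right)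
    (fun y hy => Opens.mem_iSup.2 ⟨⟨y, hy⟩, hW _, hy⟩) _ _ fun y => ?_
  show res _ (inf_le_right : W y ⊓ U ≤ U) (pS (a + b) p) = res _ (inf_le_right : W y ⊓ U ≤ U) (pS a p + pS b p)
  obtain ⟨x, hx⟩ := ((he y) (W y ⊓ U) inf_le_left).2 (res L inf_le_right a)
  obtain ⟨z, hz⟩ := ((he y) (W y ⊓ U) inf_le_left).2 (res L inf_le_right b)
  dsimp only at hx hz
  rw [pS_res, show res L (inf_le_right : W y ⊓ U ≤ U) (a + b) = _ from map_add _ a b,
    show res (CohB1.tensorPow L p) (inf_le_right : W y ⊓ U ≤ U) (pS a p + pS b p) = _ from map_add _ _ _]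
  change pS (res L _ a + res L _ b) p = res _ _ (pS a p) + res _ _ (pS b p)
  rw [pS_res, pS_res, ← hx, ← hz, ← add_smul, pS_smul, pS_smul, pS_smul, ← add_smul,
    add_pow_prime_eq hp.out, hp0, zero_mul, zero_mul, zero_mul, add_zero]

variable [hp : Fact p.Prime] (hp0 : ∀ U : X.Opens, (p : Γ(X, U)) = 0) {L : X.Modules} (hL : PicF.IsInvertible L)
  (s : Coh.toAb (Coh.structureModule X) ⟶ Coh.toAb (Coh.structureModule X))

/-- The splitting on sections. -/
def sA (U : X.Opens) : Γ(X, U) →+ Γ(X, U) := (s.hom.app (op U)).hom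

theorem sA_res {U V : X.Opens} (h : V ≤ U) (t : Γ(X, U)) :
    sA s V (X.presheaf.map (homOfLE h).op t) = X.presheaf.map (homOfLE h).op (sA s U t) :=
  ConcreteCategory.congr_hom (s.hom.naturality (homOfLE h).op) t

/-- The specification of the split of the power map. -/
def IsT {U : X.Opens} (m : Γ(CohB1.tensorPow L p, U)) (t : Γ(L, U)) : Prop :=
  ∀ (W : X.Opens) (h : W ≤ U) (e : Γ(L, W)), GenOn L e → ∀ c : Γ(X, W),
    c • pS e p = res (CohB1.tensorPow L p) h m → res L h t = sA s W c • e

variable (hlin : ∀ (U : X.Opens) (a b : Γ(X, U)), sA s U (a ^ p * b) = a * sA s U b)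

include hL in
theorem IsT.unique {U : X.Opens} {m : Γ(CohB1.tensorPow L p, U)} {t t' : Γ(L, U)} (h : IsT s m t)
    (h' : IsT s m t') : t = t' := by
  choose W e hW he using fun y : U => TwistLib.exists_genOn hL y.1
  let S : TopCat.Sheaf AddCommGrpCat.{u} X.toTopCat := (QCohLib.toAbF X).obj L
  refine TopCat.Sheaf.eq_of_locally_eq' S (fun y : U => W y ⊓ U) U (fun y => homOfLE inf_le_right)
    (fun y hy => Opens.mem_iSup.2 ⟨⟨y, hy⟩, hW _, hy⟩) _ _ fun y => ?_
  have hg := (he y).res (inf_le_left : W y ⊓ U ≤ W y)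
  obtain ⟨c, hc⟩ := (pS_genOn hg p (W y ⊓ U) le_rfl).2 (res _ inf_le_right m)
  dsimp only at hc
  rw [AmpleLib.res_refl] at hc
  exact (h _ inf_le_right _ hg c hc).trans (h' _ inf_le_right _ hg c hc).symm

include hL hlin in
theorem exists_isT {U : X.Opens} (m : Γ(CohB1.tensorPow L p, U)) : ∃ t, IsT s m t := by
  choose W₀ e₀ hW₀ he₀ using fun y : U => TwistLib.exists_genOn hL y.1
  let W : U → X.Opens := fun y => W₀ y ⊓ U
  let e : ∀ y, Γ(L, W y) := fun y => res L inf_le_left (e₀ y)
  have he : ∀ y, GenOn L (e y) := fun y => (he₀ y).res inf_le_left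
  have hex : ∀ y, ∃ c : Γ(X, W y), c • pS (e y) p = res _ (inf_le_right : W y ≤ U) m := fun y => by
    obtain ⟨c, hc⟩ := (pS_genOn (he y) p (W y) le_rfl).2 (res _ inf_le_right m)
    dsimp only at hc
    rw [AmpleLib.res_refl] at hc
    exact ⟨c, hc⟩
  choose c hc using hex
  -- independence of the generator
  have indep : ∀ (V : X.Opens) (hV : V ≤ U) (f g : Γ(L, V)) (_ : GenOn L f) (a b : Γ(X, V)),
      a • pS f p = res _ hV m → b • pS g p = res _ hV m → sA s V a • f = sA s V b • g := by
    intro V hV f g hf a b ha hb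
    obtain ⟨u, hu⟩ := (hf V le_rfl).2 g
    dsimp only at hu
    rw [AmpleLib.res_refl] at hu
    have h1 : a = u ^ p * b := by
      refine (pS_genOn hf p V le_rfl).1 ?_
      show a • res _ le_rfl (pS f p) = (u ^ p * b) • res _ le_rfl (pS f p)
      rw [AmpleLib.res_refl, ha, ← hb, ← hu, pS_smul, smul_smul, mul_comm]
    rw [h1, hlin, ← hu, smul_smul, mul_comm]
  have compat : ∀ y z, res L (inf_le_left : W y ⊓ W z ≤ W y) (sA s (W y) (c y) • e y) =
      res L (inf_le_right : W y ⊓ W z ≤ W z) (sA s (W z) (c z) • e z) := fun y z => by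
    rw [res_smul, res_smul, ← sA_res, ← sA_res]
    refine indep _ (inf_le_left.trans inf_le_right) _ _ ((he y).res _) _ _ ?_ ?_
    · rw [← pS_res, ← res_smul, hc, res_res]
    · rw [← pS_res, ← res_smul, hc, res_res]
  let S : TopCat.Sheaf AddCommGrpCat.{u} X.toTopCat := (QCohLib.toAbF X).obj L
  obtain ⟨t, ht, -⟩ := TopCat.Sheaf.existsUnique_gluing' S W U (fun y => homOfLE inf_le_right)
    (fun y hy => Opens.mem_iSup.2 ⟨⟨y, hy⟩, hW₀ _, hy⟩) (fun y => sA s (W y) (c y) • e y) compat
  refine ⟨t, fun V hV f hf a ha => ?_⟩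
  refine TopCat.Sheaf.eq_of_locally_eq' S (fun y : U => V ⊓ W y) V (fun y => homOfLE inf_le_left)
    (fun y hy => Opens.mem_iSup.2 ⟨⟨y, hV hy⟩, hy, hW₀ _, hV hy⟩) _ _ fun y => ?_
  show res L (inf_le_left : V ⊓ W y ≤ V) (res L hV t) = res L inf_le_left (sA s V a • f)
  rw [res_res, ← res_res L (inf_le_right : W y ≤ U) (inf_le_right : V ⊓ W y ≤ W y),
    show res L (inf_le_right : W y ≤ U) t = _ from ht y, res_smul, res_smul, ← sA_res, ← sA_res]
  refine indep _ (inf_le_left.trans hV) _ _ ((he y).res _) _ _ ?_ ?_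
  · rw [← pS_res, ← res_smul, hc, res_res]
  · rw [← pS_res, ← res_smul, ha, res_res]

theorem IsT.res {U V : X.Opens} (hVU : V ≤ U) {m : Γ(CohB1.tensorPow L p, U)} {t : Γ(L, U)} (h : IsT s m t) :
    IsT s (AmpleLib.res (CohB1.tensorPow L p) hVU m) (AmpleLib.res L hVU t) := fun W hW e he c hc => by
  rw [res_res] at hc ⊢
  exact h W (hW.trans hVU) e he c hc

theorem IsT.add {U : X.Opens} {m m' : Γ(CohB1.tensorPow L p, U)} {t t' : Γ(L, U)} (h : IsT s m t)
    (h' : IsT s m' t') : IsT s (m + m') (t + t') := fun W hW e he c hc => by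
  obtain ⟨a, ha⟩ := (pS_genOn he p W le_rfl).2 (AmpleLib.res _ hW m)
  obtain ⟨b, hb⟩ := (pS_genOn he p W le_rfl).2 (AmpleLib.res _ hW m')
  dsimp only at ha hb
  rw [AmpleLib.res_refl] at ha hb
  have e1 : AmpleLib.res L hW (t + t') = AmpleLib.res L hW t + AmpleLib.res L hW t' := map_add _ _ _
  have e2 : AmpleLib.res (CohB1.tensorPow L p) hW (m + m') = AmpleLib.res _ hW m + AmpleLib.res _ hW m' :=
    map_add _ _ _
  have hcab : c = a + b := by
    refine (pS_genOn he p W le_rfl).1 ?_
    show c • AmpleLib.res _ le_rfl (pS e p) = (a + b) • AmpleLib.res _ le_rfl (pS e p)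
    rw [AmpleLib.res_refl, hc, e2, ← ha, ← hb, add_smul]
  rw [e1, h W hW e he a ha, h' W hW e he b hb, hcab, map_add, add_smul]

/-- The split of the power map, on sections. -/
def tApp (U : X.Opens) : Γ(CohB1.tensorPow L p, U) →+ Γ(L, U) :=
  AddMonoidHom.mk' (fun m => (exists_isT hL s hlin m).choose) fun m m' =>
    IsT.unique hL s (exists_isT hL s hlin (m + m')).choose_spec
      (IsT.add s (exists_isT hL s hlin m).choose_spec (exists_isT hL s hlin m').choose_spec)

/-- The split of the power map. -/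
def tMap : Coh.toAb (CohB1.tensorPow L p) ⟶ Coh.toAb L :=
  ⟨{ app := fun U => AddCommGrpCat.ofHom (tApp hL s hlin U.unop)
     naturality := fun {U V} i => by
       ext m
       exact IsT.unique hL s (exists_isT hL s hlin _).choose_spec
         (IsT.res s i.unop.le (exists_isT hL s hlin m).choose_spec) }⟩

/-- The power map. -/
def fMap : Coh.toAb L ⟶ Coh.toAb (CohB1.tensorPow L p) :=
  ⟨{ app := fun U => AddCommGrpCat.ofHom (AddMonoidHom.mk' (fun t : Γ(L, U.unop) => pS t p) (pS_add hp0 hL))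
     naturality := fun {U V} i => by
       ext t
       exact (pS_res i.unop.le t p).symm }⟩

variable (φ : Coh.toAb (Coh.structureModule X) ⟶ Coh.toAb (Coh.structureModule X))
  (hφ : ∀ (U : X.Opens) (t : Γ(X, U)), φ.hom.app (op U) t = t ^ p) (hs : φ ≫ s = 𝟙 _)

include φ hφ hs in
theorem sA_pow {U : X.Opens} (a : Γ(X, U)) : sA s U (a ^ p) = a := by
  have h := congrArg (fun g : Coh.toAb (Coh.structureModule X) ⟶ Coh.toAb (Coh.structureModule X) =>
    g.hom.app (op U) a) hs
  refine Eq.trans ?_ h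
  show sA s U (a ^ p) = s.hom.app (op U) (φ.hom.app (op U) a)
  exact congrArg (sA s U) (hφ U a).symm

include φ hφ hs in
theorem fMap_tMap : fMap hp0 hL ≫ tMap hL s hlin = 𝟙 (Coh.toAb L) := by
  ext U t
  change (exists_isT hL s hlin (pS t p)).choose = t
  refine IsT.unique hL s (exists_isT hL s hlin _).choose_spec fun W hW e he c hc => ?_
  obtain ⟨a, ha⟩ := (he W le_rfl).2 (AmpleLib.res L hW t)
  dsimp only at ha
  rw [AmpleLib.res_refl] at ha
  have h1 : c = a ^ p := by
    refine (pS_genOn he p W le_rfl).1 ?_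
    show c • AmpleLib.res _ le_rfl (pS e p) = a ^ p • AmpleLib.res _ le_rfl (pS e p)
    rw [AmpleLib.res_refl, hc, pS_res, ← ha, pS_smul]
  rw [h1, sA_pow s φ hφ hs, ha]

variable (k : Type u) [Field k] [X.Over (Spec (CommRingCat.of k))]

theorem fMap_smul (c : k) :
    (QCohLib.toAbF X).map (c • 𝟙 L) ≫ fMap hp0 hL =
      fMap hp0 hL ≫ (QCohLib.toAbF X).map (c ^ p • 𝟙 (CohB1.tensorPow L p)) := by
  ext U t
  change pS ((c • 𝟙 L : L ⟶ L).app U.unop t) p =
    (c ^ p • 𝟙 (CohB1.tensorPow L p) : _ ⟶ CohB1.tensorPow L p).app U.unop (pS t p)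
  rw [KLin.smul_app_apply, KLin.smul_app_apply, map_pow, map_pow]
  exact pS_smul _ t p

end FrobSplitCohLib

end
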