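import Groth.Agent.FrobSplitCohLib.Coh
import Groth.Agent.GaDualLib.KaehlerPow
import Groth.Agent.OmegaAffLib.Universal
import Groth.Agent.OmegaAffLib.General
import Groth.Agent.LocFFLib.Basic
import Groth.Agent.PnDualLib.Hom

/-!
# The Cartier sequence twisted by a line bundle
-/

set_option autoImplicit false
set_option linter.style.haveILetI false
set_option linter.unusedSectionVars false
set_option backward.isDefEq.respectTransparency false
set_option backward.isDefEq.respectTransparency.types false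
set_option maxHeartbeats 800000
universe u

open CategoryTheory CategoryTheory.Limits AlgebraicGeometry TopologicalSpace Opposite
open AmpleLib (res res_res res_smul GenOn shT shT_res shT_smul)
open AmpleThLib (pS pS_res pS_smul pS_genOn)

noncomputable section

namespace FrobSplitCohLib

/-- Over a perfect field a vanishing relative differential vanishes absolutely. -/
theorem D_int_eq_zero {k A : Type u} [Field k] (p : ℕ) [Fact p.Prime] [CharP k p] [PerfectRing k p] [CommRing A]
    [Algebra k A] (a : A) (h : KaehlerDifferential.D k A a = 0) : KaehlerDifferential.D ℤ A a = 0 := by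
  have hk : ∀ c : k, KaehlerDifferential.D ℤ A (algebraMap k A c) = 0 := fun c => by
    obtain ⟨b, rfl⟩ := (frobeniusEquiv k p).surjective c
    rw [frobeniusEquiv_apply, show (frobenius k p) b = b ^ p from rfl, map_pow, Derivation.leibniz_pow, ← Nat.cast_smul_eq_nsmul A,
      show (p : A) = 0 by rw [← map_natCast (algebraMap k A), CharP.cast_eq_zero, map_zero], zero_smul]
  let d : Derivation k A Ω[A⁄ℤ] := Derivation.mk'
    { toFun := KaehlerDifferential.D ℤ A
      map_add' := map_add _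
      map_smul' := fun c x => by
        rw [RingHom.id_apply, Algebra.smul_def, Derivation.leibniz, hk c, smul_zero, add_zero,
          ← IsScalarTower.algebraMap_smul A c] }
    fun x y => Derivation.leibniz _ x y
  have h1 := d.liftKaehlerDifferential_comp_D a
  rw [h, map_zero] at h1
  exact h1.symm

variable (k : Type u) [Field k] {X : Scheme.{u}} [X.Over (Spec (CommRingCat.of k))] (p : ℕ) [hp : Fact p.Prime]
  [CharP k p] [QuasiSeparated (X ↘ Spec (CommRingCat.of k))]

/-- The differential. -/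
abbrev dd (W : X.Opens) (c : Γ(X, W)) : Γ(Omega.sheaf (X ↘ Spec (CommRingCat.of k)), W) :=
  (OmegaSh.dOmega (X ↘ Spec (CommRingCat.of k))).app W c

theorem dd_res {U W : X.Opens} (h : W ≤ U) (c : Γ(X, U)) :
    dd k W (X.presheaf.map (homOfLE h).op c) = res _ h (dd k U c) :=
  OmegaAffLib.der_rs _ h c

theorem dd_mul {U : X.Opens} (a b : Γ(X, U)) : dd k U (a * b) = a • dd k U b + b • dd k U a :=
  OmegaAffLib.der_mul _ U a b

theorem dd_pow {U : X.Opens} (u : Γ(X, U)) : ∀ m : ℕ, dd k U (u ^ (m + 1)) = ((m + 1 : ℕ) : Γ(X, U)) • (u ^ m • dd k U u)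
  | 0 => by simp
  | m + 1 => by
    rw [pow_succ u (m + 1), dd_mul, dd_pow u m, smul_smul, smul_smul, smul_smul, ← add_smul]
    congr 1
    push_cast
    ring

theorem dd_pow_mul {U : X.Opens} (u b : Γ(X, U)) : dd k U (u ^ p * b) = u ^ p • dd k U b := by
  obtain ⟨m, hm⟩ : ∃ m, p = m + 1 := ⟨p - 1, (Nat.sub_add_cancel hp.out.one_lt.le).symm⟩
  have h : ((m + 1 : ℕ) : Γ(X, U)) = 0 := by rw [← hm]; exact natCast_zero k U
  rw [dd_mul, hm, dd_pow, h, zero_smul, smul_zero, add_zero]

variable [IsIntegral X] [PerfectRing k p]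

/-- On a normal scheme a closed function on an affine open is a `p`-th power. -/
theorem exists_pow_of_dd (hX : Pi1.IsNormalScheme X) {W : X.Opens} (hW : IsAffineOpen W) (hne : Nonempty W)
    (c : Γ(X, W)) (h : dd k W c = 0) : ∃ a : Γ(X, W), a ^ p = c := by
  let f := X ↘ Spec (CommRingCat.of k)
  have hle : W ≤ f ⁻¹ᵁ ⊤ := fun x _ => trivial
  letI : Algebra Γ(Spec (CommRingCat.of k), ⊤) Γ(X, W) := (f.appLE ⊤ W hle).hom.toAlgebra
  obtain ⟨e, he⟩ := OmegaAffLib.exists_equiv (OmegaAffLib.isUniversal_dOmega (f := f)) (isAffineOpen_top _) hW hle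
  have hD : KaehlerDifferential.D Γ(Spec (CommRingCat.of k), ⊤) Γ(X, W) c = 0 :=
    e.injective ((he c).trans (h.trans (map_zero e).symm))
  let σ : k →+* Γ(Spec (CommRingCat.of k), ⊤) := (Scheme.ΓSpecIso (CommRingCat.of k)).inv.hom
  letI : Algebra k Γ(X, W) := ((f.appLE ⊤ W hle).hom.comp σ).toAlgebra
  letI : Algebra k Γ(Spec (CommRingCat.of k), ⊤) := σ.toAlgebra
  haveI : IsScalarTower k Γ(Spec (CommRingCat.of k), ⊤) Γ(X, W) := IsScalarTower.of_algebraMap_eq fun _ => rfl
  have hσ : Function.Surjective σ :=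
    (ConcreteCategory.bijective_of_isIso (Scheme.ΓSpecIso (CommRingCat.of k)).inv).2
  have hDk : KaehlerDifferential.D k Γ(X, W) c = 0 := by
    let d : Derivation Γ(Spec (CommRingCat.of k), ⊤) Γ(X, W) Ω[Γ(X, W)⁄k] := Derivation.mk'
      { toFun := KaehlerDifferential.D k Γ(X, W)
        map_add' := map_add _
        map_smul' := fun r x => by
          obtain ⟨a, rfl⟩ := hσ r
          rw [RingHom.id_apply, show σ a • x = a • x from IsScalarTower.algebraMap_smul _ a x, Derivation.map_smul]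
          exact (IsScalarTower.algebraMap_smul Γ(X, W) a _).symm.trans
            (IsScalarTower.algebraMap_smul Γ(X, W) (σ a) _) }
      fun x y => Derivation.leibniz _ x y
    have h1 := d.liftKaehlerDifferential_comp_D c
    rw [hD, map_zero] at h1
    exact h1.symm
  haveI := hne
  haveI : IsIntegrallyClosed Γ(X, W) := LocFFLib.isIntegrallyClosed_sections hX W
  haveI : CharP Γ(X, W) p := charP_of_injective_ringHom (algebraMap k Γ(X, W)).injective p
  exact GaDualLib.exists_pow_eq_of_D_eq_zero p c (D_int_eq_zero p c hDk)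

variable {M : X.Modules} (hM : PicF.IsInvertible M)

/-- The twist of the sheaf of differentials. -/
abbrev tw (M : X.Modules) : X.Modules :=
  CohB1.tensorMod (CohB1.tensorPow M p) (Omega.sheaf (X ↘ Spec (CommRingCat.of k)))

/-- The specification of the twisted differential. -/
def IsD {U : X.Opens} (m : Γ(CohB1.tensorPow M p, U)) (t : Γ(tw k p M, U)) : Prop :=
  ∀ (W : X.Opens) (h : W ≤ U) (e : Γ(M, W)), GenOn M e → ∀ c : Γ(X, W),
    c • pS e p = res (CohB1.tensorPow M p) h m → res (tw k p M) h t = shT (pS e p) (dd k W c)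

include hM

theorem exists_coeff {U : X.Opens} (m : Γ(CohB1.tensorPow M p, U)) :
    ∃ (W : U → X.Opens) (hW : ∀ y, W y ≤ U) (e : ∀ y, Γ(M, W y)) (c : ∀ y, Γ(X, W y)),
      (∀ y : U, y.1 ∈ W y) ∧ (∀ y, GenOn M (e y)) ∧ ∀ y, c y • pS (e y) p = res _ (hW y) m := by
  choose W₀ e₀ hW₀ he₀ using fun y : U => TwistLib.exists_genOn hM y.1
  have he : ∀ y, GenOn M (res M (inf_le_left : W₀ y ⊓ U ≤ W₀ y) (e₀ y)) := fun y => (he₀ y).res _
  have hex : ∀ y, ∃ c : Γ(X, W₀ y ⊓ U), c • pS (res M inf_le_left (e₀ y)) p =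
      res _ (inf_le_right : W₀ y ⊓ U ≤ U) m := fun y => by
    obtain ⟨c, hc⟩ := (pS_genOn (he y) p _ le_rfl).2 (res _ inf_le_right m)
    dsimp only at hc
    rw [AmpleLib.res_refl] at hc
    exact ⟨c, hc⟩
  choose c hc using hex
  exact ⟨fun y => W₀ y ⊓ U, fun y => inf_le_right, fun y => res M inf_le_left (e₀ y), c,
    fun y => ⟨hW₀ y, y.2⟩, he, hc⟩

theorem IsD.unique {U : X.Opens} {m : Γ(CohB1.tensorPow M p, U)} {t t' : Γ(tw k p M, U)} (h : IsD k p m t)
    (h' : IsD k p m t') : t = t' := by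
  obtain ⟨W, hW, e, c, hy, he, hc⟩ := exists_coeff p hM m
  let S : TopCat.Sheaf AddCommGrpCat.{u} X.toTopCat := (QCohLib.toAbF X).obj (tw k p M)
  refine TopCat.Sheaf.eq_of_locally_eq' S W U (fun y => homOfLE (hW y))
    (fun y hy' => Opens.mem_iSup.2 ⟨⟨y, hy'⟩, hy _⟩) _ _ fun y => ?_
  exact (h _ (hW y) _ (he y) _ (hc y)).trans (h' _ (hW y) _ (he y) _ (hc y)).symm

theorem exists_isD {U : X.Opens} (m : Γ(CohB1.tensorPow M p, U)) : ∃ t, IsD k p m t := by
  obtain ⟨W, hW, e, c, hy, he, hc⟩ := exists_coeff p hM m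
  have indep : ∀ (V : X.Opens) (hV : V ≤ U) (f g : Γ(M, V)) (_ : GenOn M f) (a b : Γ(X, V)),
      a • pS f p = res _ hV m → b • pS g p = res _ hV m →
        shT (pS f p) (dd k V a) = shT (pS g p) (dd k V b) := by
    intro V hV f g hf a b ha hb
    obtain ⟨u, hu⟩ := (hf V le_rfl).2 g
    dsimp only at hu
    rw [AmpleLib.res_refl] at hu
    have h1 : a = u ^ p * b := by
      refine (pS_genOn hf p V le_rfl).1 ?_
      show a • res _ le_rfl (pS f p) = (u ^ p * b) • res _ le_rfl (pS f p)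
      rw [AmpleLib.res_refl, ha, ← hb, ← hu, pS_smul, smul_smul, mul_comm]
    rw [h1, dd_pow_mul, ← hu, pS_smul]
    have e1 : shT (pS f p) (u ^ p • dd k V b) = (1 * u ^ p) • shT (pS f p) (dd k V b) := by
      rw [← shT_smul, one_smul]
    have e2 : shT (u ^ p • pS f p) (dd k V b) = (u ^ p * 1) • shT (pS f p) (dd k V b) := by
      rw [← shT_smul, one_smul]
    rw [e1, e2, mul_comm]
  let S : TopCat.Sheaf AddCommGrpCat.{u} X.toTopCat := (QCohLib.toAbF X).obj (tw k p M)
  have compat : ∀ y z, res (tw k p M) (inf_le_left : W y ⊓ W z ≤ W y) (shT (pS (e y) p) (dd k (W y) (c y))) =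
      res (tw k p M) (inf_le_right : W y ⊓ W z ≤ W z) (shT (pS (e z) p) (dd k (W z) (c z))) := fun y z => by
    rw [shT_res, shT_res, pS_res, pS_res, ← dd_res, ← dd_res]
    refine indep _ (inf_le_left.trans (hW y)) _ _ ((he y).res _) _ _ ?_ ?_
    · rw [← pS_res, ← res_smul, hc, res_res]
    · rw [← pS_res, ← res_smul, hc, res_res]
  obtain ⟨t, ht, -⟩ := TopCat.Sheaf.existsUnique_gluing' S W U (fun y => homOfLE (hW y))
    (fun y hy' => Opens.mem_iSup.2 ⟨⟨y, hy'⟩, hy _⟩) (fun y => shT (pS (e y) p) (dd k (W y) (c y))) compat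
  refine ⟨t, fun V hV f hf a ha => ?_⟩
  refine TopCat.Sheaf.eq_of_locally_eq' S (fun y : U => V ⊓ W y) V (fun y => homOfLE inf_le_left)
    (fun y hy' => Opens.mem_iSup.2 ⟨⟨y, hV hy'⟩, hy', hy _⟩) _ _ fun y => ?_
  show res (tw k p M) (inf_le_left : V ⊓ W y ≤ V) (res (tw k p M) hV t) =
    res (tw k p M) inf_le_left (shT (pS f p) (dd k V a))
  rw [res_res, ← res_res (tw k p M) (hW y) (inf_le_right : V ⊓ W y ≤ W y),
    show res (tw k p M) (hW y) t = _ from ht y, shT_res, shT_res, pS_res, pS_res, ← dd_res, ← dd_res]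
  refine indep _ (inf_le_left.trans hV) _ _ ((he y).res _) _ _ ?_ ?_
  · rw [← pS_res, ← res_smul, hc, res_res]
  · rw [← pS_res, ← res_smul, ha, res_res]

omit hM in
theorem IsD.res {U V : X.Opens} (hVU : V ≤ U) {m : Γ(CohB1.tensorPow M p, U)} {t : Γ(tw k p M, U)}
    (h : IsD k p m t) :
    IsD k p (AmpleLib.res (CohB1.tensorPow M p) hVU m) (AmpleLib.res (tw k p M) hVU t) := fun W hW e he c hc => by
  rw [res_res] at hc ⊢
  exact h W (hW.trans hVU) e he c hc

omit hM in
theorem shT_add_right {A B : X.Modules} {W : X.Opens} (a : Γ(A, W)) (b b' : Γ(B, W)) :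
    shT a (b + b') = shT a b + shT a b' :=
  (congrArg (KFlatLib.shApp A B W) (TensorProduct.tmul_add _ _ _)).trans (map_add _ _ _)

omit hM in
theorem IsD.add {U : X.Opens} {m m' : Γ(CohB1.tensorPow M p, U)} {t t' : Γ(tw k p M, U)} (h : IsD k p m t)
    (h' : IsD k p m' t') : IsD k p (m + m') (t + t') := fun W hW e he c hc => by
  obtain ⟨a, ha⟩ := (pS_genOn he p W le_rfl).2 (AmpleLib.res _ hW m)
  obtain ⟨b, hb⟩ := (pS_genOn he p W le_rfl).2 (AmpleLib.res _ hW m')
  dsimp only at ha hb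
  rw [AmpleLib.res_refl] at ha hb
  have e1 : AmpleLib.res (tw k p M) hW (t + t') = AmpleLib.res _ hW t + AmpleLib.res _ hW t' := map_add _ _ _
  have e2 : AmpleLib.res (CohB1.tensorPow M p) hW (m + m') = AmpleLib.res _ hW m + AmpleLib.res _ hW m' :=
    map_add _ _ _
  have hcab : c = a + b := by
    refine (pS_genOn he p W le_rfl).1 ?_
    show c • AmpleLib.res _ le_rfl (pS e p) = (a + b) • AmpleLib.res _ le_rfl (pS e p)
    rw [AmpleLib.res_refl, hc, e2, ← ha, ← hb, add_smul]
  rw [e1, h W hW e he a ha, h' W hW e he b hb, hcab, ← shT_add_right]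
  exact congrArg (shT _) (map_add _ _ _).symm

/-- The twisted differential. -/
def dMap : Coh.toAb (CohB1.tensorPow M p) ⟶ Coh.toAb (tw k p M) :=
  ⟨{ app := fun U => AddCommGrpCat.ofHom (AddMonoidHom.mk'
       (fun m : Γ(CohB1.tensorPow M p, U.unop) => (exists_isD k p hM m).choose) fun m m' =>
         IsD.unique k p hM (exists_isD k p hM (m + m')).choose_spec
           (IsD.add k p (exists_isD k p hM m).choose_spec (exists_isD k p hM m').choose_spec))
     naturality := fun {U V} i => by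
       ext m
       exact IsD.unique k p hM (exists_isD k p hM _).choose_spec
         (IsD.res k p i.unop.le (exists_isD k p hM m).choose_spec) }⟩

theorem fMap_dMap : fMap (natCast_zero k) hM ≫ dMap k p hM = 0 := by
  ext U t
  change (exists_isD k p hM (pS t p)).choose = 0
  refine IsD.unique k p hM (exists_isD k p hM _).choose_spec fun W hW e he c hc => ?_
  obtain ⟨a, ha⟩ := (he W le_rfl).2 (AmpleLib.res M hW t)
  dsimp only at ha
  rw [AmpleLib.res_refl] at ha
  have h1 : c = a ^ p * 1 := by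
    refine (pS_genOn he p W le_rfl).1 ?_
    show c • AmpleLib.res _ le_rfl (pS e p) = (a ^ p * 1) • AmpleLib.res _ le_rfl (pS e p)
    rw [AmpleLib.res_refl, hc, pS_res, ← ha, pS_smul, mul_one]
  have hd1 : dd k W (1 : Γ(X, W)) = 0 := by
    have := dd_mul k (1 : Γ(X, W)) 1
    rwa [mul_one, one_smul, left_eq_add] at this
  rw [h1, dd_pow_mul, hd1, smul_zero, show AmpleLib.res (tw k p M) hW (0 : Γ(tw k p M, U.unop)) = 0 from map_zero _]
  have e0 := shT_add_right (pS e p) (0 : Γ(Omega.sheaf (X ↘ Spec (CommRingCat.of k)), W)) 0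
  rw [add_zero, left_eq_add] at e0
  exact e0.symm

omit hM [CharP k p] [PerfectRing k p] in
theorem genOn_eq_zero {A : X.Modules} {W : X.Opens} {e : Γ(A, W)} (he : GenOn A e) {B : X.Modules}
    (b : Γ(B, W)) (h : shT e b = 0) : b = 0 := by
  refine ProjFormLib.section_ext _ _ fun y hy => ?_
  have h1 : PnDualLib.ins A B y (ProjFormLib.ger A y hy e) (ProjFormLib.ger B y hy b) =
      PnDualLib.ins A B y (ProjFormLib.ger A y hy e) (ProjFormLib.ger B y hy (0 : Γ(B, W))) := by
    rw [CohCmpLib.ger_zero B y hy, map_zero, PnDualLib.ins_ger]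
    exact (congrArg (ProjFormLib.ger (KFlatLib.tens A B) y hy) h).trans (CohCmpLib.ger_zero _ y hy)
  exact (PnDualLib.bijective_ins A B y _ (he.genAt hy)).1 h1

theorem epi_lift (hX : Pi1.IsNormalScheme X) :
    Epi (kernel.lift (dMap k p hM) (fMap (natCast_zero k) hM) (fMap_dMap k p hM)) := by
  let lf := kernel.lift (dMap k p hM) (fMap (natCast_zero k) hM) (fMap_dMap k p hM)
  refine (Sheaf.isLocallySurjective_iff_epi' (φ := lf)).mp
    ((TopCat.Presheaf.isLocallySurjective_iff _).mpr fun V s y hy => ?_)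
  let m : Γ(CohB1.tensorPow M p, V) := (kernel.ι (dMap k p hM)).hom.app (op V) s
  have hm : (exists_isD k p hM m).choose = 0 := by
    have h := congrArg (fun g : _ ⟶ Coh.toAb (tw k p M) => g.hom.app (op V) s) (kernel.condition (dMap k p hM))
    exact h
  obtain ⟨W₀, hW₀, e₀, c₀, hy₀, he₀, hc₀⟩ := exists_coeff p hM m
  obtain ⟨W, hWaff, hyW, hle⟩ := Opens.isBasis_iff_nbhd.mp X.isBasis_affineOpens (hy₀ ⟨y, hy⟩)
  let e := AmpleLib.res M hle (e₀ ⟨y, hy⟩)
  let c := X.presheaf.map (homOfLE hle).op (c₀ ⟨y, hy⟩)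
  have he : GenOn M e := (he₀ _).res hle
  have hc : c • pS e p = AmpleLib.res _ (hle.trans (hW₀ ⟨y, hy⟩)) m := by
    rw [← pS_res, ← res_smul, hc₀, res_res]
  have h0 := (exists_isD k p hM m).choose_spec W _ e he c hc
  rw [hm, show AmpleLib.res (tw k p M) (hle.trans (hW₀ ⟨y, hy⟩)) (0 : Γ(tw k p M, V)) = 0 from map_zero _] at h0
  obtain ⟨a, ha⟩ := exists_pow_of_dd k p hX hWaff ⟨⟨y, hyW⟩⟩ c
    (genOn_eq_zero (pS_genOn he p) _ h0.symm)
  refine ⟨W, hle.trans (hW₀ ⟨y, hy⟩), ⟨a • e, ?_⟩, hyW⟩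
  have inj : Function.Injective ((kernel.ι (dMap k p hM)).hom.app (op W)) :=
    (AddCommGrpCat.mono_iff_injective _).1 inferInstance
  refine inj ?_
  have h2 : (lf ≫ kernel.ι (dMap k p hM)).hom.app (op W) (a • e) = pS (a • e) p :=
    congrArg (fun g : Coh.toAb M ⟶ Coh.toAb (CohB1.tensorPow M p) => g.hom.app (op W) (a • e))
      (kernel.lift_ι _ _ _)
  refine h2.trans ?_
  rw [pS_smul, ha, hc]
  exact (ConcreteCategory.congr_hom ((kernel.ι (dMap k p hM)).hom.naturality
    (homOfLE (hle.trans (hW₀ ⟨y, hy⟩))).op) s).symm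

include k in
theorem fMap_injective (U : X.Opens) : Function.Injective (fun t : Γ(M, U) => pS (L := M) t p) := fun a b hab => by
  choose W e hW he using fun y : U => TwistLib.exists_genOn hM y.1
  let S : TopCat.Sheaf AddCommGrpCat.{u} X.toTopCat := (QCohLib.toAbF X).obj M
  refine TopCat.Sheaf.eq_of_locally_eq' S (fun y : U => W y ⊓ U) U (fun y => homOfLE inf_le_right)
    (fun y hy => Opens.mem_iSup.2 ⟨⟨y, hy⟩, hW _, hy⟩) _ _ fun y => ?_
  show res M (inf_le_right : W y ⊓ U ≤ U) a = res M inf_le_right b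
  haveI : Nonempty (W y ⊓ U : X.Opens) := ⟨⟨y.1, hW y, y.2⟩⟩
  obtain ⟨x, hx⟩ := ((he y) (W y ⊓ U) inf_le_left).2 (res M inf_le_right a)
  obtain ⟨z, hz⟩ := ((he y) (W y ⊓ U) inf_le_left).2 (res M inf_le_right b)
  dsimp only at hx hz
  have h1 := congrArg (res (CohB1.tensorPow M p) (inf_le_right : W y ⊓ U ≤ U)) hab
  rw [pS_res, pS_res, ← hx, ← hz, pS_smul, pS_smul] at h1
  have hg := pS_genOn ((he y).res (inf_le_left : W y ⊓ U ≤ W y)) p
  have h2 : x ^ p = z ^ p := by
    refine (hg _ le_rfl).1 ?_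
    show x ^ p • res _ le_rfl _ = z ^ p • res _ le_rfl _
    rw [AmpleLib.res_refl]
    exact h1
  haveI : ExpChar Γ(X, W y ⊓ U) p := by
    haveI : CharP Γ(X, W y ⊓ U) p := charP_of_injective_ringHom
      ((X.presheaf.map (homOfLE (le_top : W y ⊓ U ≤ ⊤)).op).hom.comp
        (Coh.toGlobal (X ↘ Spec (CommRingCat.of k)))).injective p
    exact ExpChar.prime hp.out
  haveI : _root_.IsReduced Γ(X, W y ⊓ U) := inferInstance
  rw [← hx, ← hz, frobenius_inj Γ(X, W y ⊓ U) p h2]

end FrobSplitCohLib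

end
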