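import Groth.Agent.FrobSplitCohLib.Cartier

/-!
# Vanishing of `H¹` through the Cartier sequence
-/

set_option autoImplicit false
set_option linter.style.haveILetI false
set_option linter.unusedSectionVars false
set_option backward.isDefEq.respectTransparency false
set_option backward.isDefEq.respectTransparency.types false
set_option maxHeartbeats 800000
universe u

open CategoryTheory CategoryTheory.Limits AlgebraicGeometry TopologicalSpace Opposite

noncomputable section

namespace FrobSplitCohLib

/-- `0 → ker D → P → im D → 0` is short exact. -/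
theorem shortExact_kerIm {C : Type*} [Category C] [Abelian C] {A B : C} (φ : A ⟶ B)
    (w : kernel.ι φ ≫ Abelian.factorThruImage φ = 0) :
    (ShortComplex.mk (kernel.ι φ) (Abelian.factorThruImage φ) w).ShortExact := by
  let S'' : ShortComplex C := ShortComplex.mk (kernel.ι φ) φ (kernel.condition φ)
  let α : ShortComplex.mk (kernel.ι φ) (Abelian.factorThruImage φ) w ⟶ S'' :=
    { τ₁ := 𝟙 _, τ₂ := 𝟙 _, τ₃ := Abelian.image.ι φ,
      comm₁₂ := by simp [S''], comm₂₃ := by simp [S''] }
  have : Epi α.τ₁ := inferInstanceAs (Epi (𝟙 _))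
  have : IsIso α.τ₂ := inferInstanceAs (IsIso (𝟙 _))
  have : Mono α.τ₃ := inferInstanceAs (Mono (Abelian.image.ι φ))
  exact { exact := (ShortComplex.exact_iff_of_epi_of_isIso_of_mono α).mpr
            (ShortComplex.exact_of_f_is_kernel _ (kernelIsKernel φ))
          mono_f := inferInstanceAs (Mono (kernel.ι φ))
          epi_g := inferInstanceAs (Epi (Abelian.factorThruImage φ)) }

/-- `H¹(M^p) = 0` and `H⁰(M^p ⊗ Ω) = 0` force `H¹(M) = 0` on a normal scheme. -/
theorem h1_step (k : Type u) [Field k] {X : Scheme.{u}} [X.Over (Spec (CommRingCat.of k))] (p : ℕ) [Fact p.Prime]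
    [CharP k p] [PerfectRing k p] [QuasiSeparated (X ↘ Spec (CommRingCat.of k))] [IsIntegral X]
    (hX : Pi1.IsNormalScheme X) {M : X.Modules} (hM : PicF.IsInvertible M)
    (h0 : Subsingleton (Coh.HH X (CohB1.tensorMod (CohB1.tensorPow M p) (Omega.sheaf (X ↘ (Spec (CommRingCat.of k))))) 0))
    (h1 : Subsingleton (Coh.HH X (CohB1.tensorPow M p) 1)) :
    Subsingleton (Coh.HH X M 1) := by
  let F := fMap (natCast_zero k) hM (p := p)
  let D := dMap k p hM
  haveI := h0
  haveI := h1
  let lf := kernel.lift D F (fMap_dMap k p hM)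
  haveI : Epi lf := epi_lift k p hM hX
  haveI hmono : Mono F := by
    refine (Sheaf.Hom.mono_iff_presheaf_mono _ _ F).mpr ?_
    haveI : ∀ U, Mono (F.hom.app U) := fun U =>
      (AddCommGrpCat.mono_iff_injective _).mpr (fMap_injective k p hM U.unop)
    exact NatTrans.mono_of_mono_app _
  haveI : Mono (lf ≫ kernel.ι D) := by rw [show lf ≫ kernel.ι D = F from kernel.lift_ι _ _ _]; exact hmono
  haveI : Mono lf := mono_of_mono lf (kernel.ι D)
  haveI : IsIso lf := isIso_of_mono_of_epi lf
  have w : kernel.ι D ≫ Abelian.factorThruImage D = 0 := by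
    rw [← cancel_mono (Abelian.image.ι D), Category.assoc, Abelian.image.fac, kernel.condition, zero_comp]
  have hS := shortExact_kerIm D w
  haveI : Subsingleton (Sheaf.H (Abelian.image D) 0) := by
    refine ⟨fun a b => Abelian.Ext.addEquiv₀.injective ((cancel_mono (Abelian.image.ι D)).1 ?_)⟩
    rw [← Sheaf.H.addEquiv₀_map, ← Sheaf.H.addEquiv₀_map]
    exact congrArg _ (@Subsingleton.elim (Coh.HH X (tw k p M) 0) h0 _ _)
  refine subsingleton_of_forall_eq 0 fun x => ?_
  let y : Sheaf.H (kernel D) 1 := Sheaf.H.map lf 1 x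
  obtain ⟨z, hz⟩ := Abelian.Ext.covariant_sequence_exact₁ _ hS y
    (@Subsingleton.elim (Coh.HH X (CohB1.tensorPow M p) 1) h1 _ _) (show 0 + 1 = 1 from rfl)
  have hy : y = 0 := by
    rw [← hz, @Subsingleton.elim (Sheaf.H (Abelian.image D) 0) _ z 0]
    exact Abelian.Ext.zero_comp ..
  have h := congrArg (Sheaf.H.map (inv lf) 1) hy
  rw [map_zero] at h
  change Sheaf.H.map (inv lf) 1 (Sheaf.H.map lf 1 x) = 0 at h
  rw [← Sheaf.H.map_comp_apply, IsIso.hom_inv_id, Sheaf.H.map_id_apply] at h
  exact h

end FrobSplitCohLib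

end
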