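import Groth.Agent.FrobSplitCohLib.Basic
import Groth.Agent.GenusOneSSLib.Basic

/-!
# Frobenius splitting and dimensions of cohomology
-/

set_option autoImplicit false
set_option linter.style.haveILetI false
set_option linter.unusedSectionVars false
set_option backward.isDefEq.respectTransparency false
set_option backward.isDefEq.respectTransparency.types false
set_option maxHeartbeats 800000
universe u

open CategoryTheory CategoryTheory.Limits AlgebraicGeometry TopologicalSpace Opposite

noncomputable section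

namespace FrobSplitCohLib

theorem natCast_zero {p : ℕ} (k : Type u) [Field k] [CharP k p] {X : Scheme.{u}}
    [X.Over (Spec (CommRingCat.of k))] (U : X.Opens) : (p : Γ(X, U)) = 0 := by
  have h : ((X.presheaf.map (homOfLE (le_top : U ≤ ⊤)).op).hom.comp (Coh.toGlobal (X ↘ Spec (CommRingCat.of k))))
      (p : k) = 0 := by rw [CharP.cast_eq_zero, map_zero]
  rwa [map_natCast] at h

/-- `hⁱ(L) ≤ hⁱ(L^{⊗p})` on a Frobenius split scheme. -/
theorem finrank_le (p : ℕ) [Fact p.Prime] (k : Type u) [Field k] [CharP k p] [PerfectRing k p] {X : Scheme.{u}}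
    [X.Over (Spec (CommRingCat.of k))] [IsProper (X ↘ Spec (CommRingCat.of k))]
    (φ s : Coh.toAb (Coh.structureModule X) ⟶ Coh.toAb (Coh.structureModule X))
    (hφ : ∀ (U : X.Opens) (t : Γ(X, U)), φ.hom.app (op U) t = t ^ p) (hs : φ ≫ s = 𝟙 _)
    (hlin : ∀ (U : X.Opens) (a b : Γ(X, U)),
      s.hom.app (op U) (a ^ p * b) = a * @id Γ(X, U) (s.hom.app (op U) b))
    {L : X.Modules} (hL : PicF.IsInvertible L) (i : ℕ) :
    Module.finrank k (Coh.HH X L i) ≤ Module.finrank k (Coh.HH X (CohB1.tensorPow L p) i) := by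
  haveI := CurvLib.isNoetherian k (X := X)
  haveI := CurvLib.finite_HH (k := k) (CurvLib.isCoh_of_isInvertible (AmpleThLib.tensorPow_isInvertible hL p)) i
  let hp0 : ∀ U : X.Opens, (p : Γ(X, U)) = 0 := natCast_zero k
  let f : Coh.HH X L i →+ Coh.HH X (CohB1.tensorPow L p) i := Sheaf.H.map (fMap hp0 hL) i
  refine finrank_le_of_semilinear p f (fun x y h => ?_) fun c x => ?_
  · have := congrArg (Sheaf.H.map (tMap hL s hlin) i) h
    change Sheaf.H.map _ i (Sheaf.H.map _ i x) = Sheaf.H.map _ i (Sheaf.H.map _ i y) at this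
    rw [← Sheaf.H.map_comp_apply, ← Sheaf.H.map_comp_apply, fMap_tMap hp0 hL s hlin φ hφ hs,
      Sheaf.H.map_id_apply, Sheaf.H.map_id_apply] at this
    exact this
  · have hc : ∀ (M : X.Modules) (a : k) (y : Coh.HH X M i),
        a • y = Sheaf.H.map ((QCohLib.toAbF X).map (a • 𝟙 M)) i y := fun M a y => by
      rw [← CurvLib.hMap_apply (k := k), GenusOneSSLib.hMap_smul, CurvLib.hMap_apply, CategoryTheory.Functor.map_id,
        Sheaf.H.map_id_apply]
    refine (congrArg f (hc L c x)).trans (Eq.trans ?_ (hc (CohB1.tensorPow L p) (c ^ p) (f x)).symm)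
    refine (Sheaf.H.map_comp_apply _ _ _).symm.trans (Eq.trans ?_ (Sheaf.H.map_comp_apply _ _ _))
    exact congrArg (fun g => Sheaf.H.map g i x) (fMap_smul hp0 hL k c)

end FrobSplitCohLib

end
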